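import Groth.Agent.EtDimDev.Sub
import Groth.Agent.EtPBC.AffineCurveRed
import Groth.Agent.EtPBC.CdPDev
import Groth.Agent.EtPBC.CdPush
import Mathlib

/-!
# Devissage of cohomological vanishing
-/

set_option autoImplicit false
set_option backward.isDefEq.respectTransparency false
set_option backward.isDefEq.respectTransparency.types false
set_option linter.auxLemma false
set_option linter.style.haveILetI false
set_option linter.unusedSectionVars false

universe u

open CategoryTheory CategoryTheory.Limits CategoryTheory.Abelian AlgebraicGeometry Opposite TopologicalSpace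
open Groth.Agent.EtPBC

noncomputable section

namespace Groth.Agent.EtDimDev

attribute [local instance 100000] EtCoh.H._proof_1 EtMV.hext
attribute [local instance 200000] EtMV.hextAb

variable {Y : Scheme.{u}}

theorem zeroAt_of_notMem_supp {F : EtCoh.Ab Y} {x : Y} (h : x ∉ EtPBC.supp F) : ZeroAt F x := by
  obtain ⟨Ω, _, _, ξ, hξ⟩ := exists_geomPt x
  refine (isZero_stalk_iff_zeroAt hξ F).1 ?_
  by_contra hne
  refine h ⟨Ω, inferInstance, inferInstance, ξ, ?_, hne⟩
  refine Set.eq_singleton_iff_unique_mem.2 ⟨⟨default, hξ⟩, ?_⟩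
  rintro _ ⟨t, rfl⟩
  rw [Subsingleton.elim t default, hξ]

/-- direct images from a closed subscheme vanish outside it -/
theorem zeroAt_push_closed {Z : Scheme.{u}} (i : Z ⟶ Y) [IsClosedImmersion i] (G : EtCoh.Ab Z) {y : Y}
    (hy : y ∉ Set.range i) : ZeroAt ((EtCoh.push i).obj G) y := by
  intro V s v hv
  refine (EtSect.mem_iff _ s v).2 ?_
  haveI : Etale V.hom := V.prop
  let W₀ : V.left.Opens :=
    ⟨V.hom ⁻¹' (Set.range i)ᶜ, i.isClosedEmbedding.isClosed_range.isOpen_compl.preimage V.hom.continuous⟩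
  let W : Y.Etale := MorphismProperty.Over.mk ⊤ (W₀.ι ≫ V.hom) (inferInstance : Etale (W₀.ι ≫ V.hom))
  let g : W ⟶ V := MorphismProperty.Over.homMk W₀.ι rfl
  refine ⟨W, g, ⟨⟨v, fun h => hy (hv ▸ h)⟩, rfl⟩, ?_⟩
  refine EtFLC.sect_ext G (V := (EtCoh.bc i).obj W) fun z => ?_
  exfalso
  let w : W₀ := pullback.fst W.hom i z
  have hc := congrArg (fun m : pullback W.hom i ⟶ Y => m z) (pullback.condition (f := W.hom) (g := i))
  exact w.2 ⟨_, hc.symm⟩

/-- sheaves vanishing outside a closed subscheme -/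
theorem subsingleton_H_of_zeroAt_compl {Z : Scheme.{u}} (i : Z ⟶ Y) [IsClosedImmersion i] (F : EtCoh.Ab Y)
    (hF : ∀ y, y ∉ Set.range i → ZeroAt F y) (q : ℕ) (h : Subsingleton (EtCoh.H Z ((EtCoh.pull i).obj F) q)) :
    Subsingleton (EtCoh.H Y F q) := by
  let un := (EtCoh.pullPushAdj i).unit.app F
  have hb := fun z => bijective_stalk_unit_at i (EtPushStalk.liftProp_of_closedImmersion i) F z rfl
  haveI : Mono un := Preadditive.mono_of_isZero_kernel _ (isZero_of_zeroAt _ fun y => by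
    by_cases hy : y ∈ Set.range i
    · obtain ⟨z, rfl⟩ := hy
      obtain ⟨Ω, _, _, ξ, hξ, h⟩ := hb z
      exact zeroAt_kernel hξ un h.1
    · exact zeroAt_of_mono (kernel.ι un) (hF y hy))
  haveI : Epi un := Preadditive.epi_of_isZero_cokernel _ (isZero_of_zeroAt _ fun y => by
    by_cases hy : y ∈ Set.range i
    · obtain ⟨z, rfl⟩ := hy
      obtain ⟨Ω, _, _, ξ, hξ, h⟩ := hb z
      exact zeroAt_cokernel hξ un h.2
    · exact zeroAt_of_epi (cokernel.π un) (zeroAt_push_closed i _ hy))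
  haveI : IsIso un := isIso_of_mono_of_epi un
  exact subsingleton_H_of_iso (asIso un).symm q
    ((subsingleton_H_iff_push i _ (fun k => EtIntegral.Rpush_succ_isZero i _ k) q).2 h)

variable [IsNoetherian Y] (ℓ : ℕ) [hℓ : Fact ℓ.Prime]

/-- **irreducible components** -/
theorem subsingleton_H_of_components (F : EtCoh.Ab Y) (hk : Killed ℓ F) (q : ℕ)
    (hcomp : ∀ C : Closeds Y, (C : Set Y) ∈ irreducibleComponents Y →
      Subsingleton (EtCoh.H (sub C) ((EtCoh.pull (subι C)).obj F) (q + 1)))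
    (hsmall : ∀ (C : Closeds Y), (∀ y ∈ C, ∃ a : Y, a ⤳ y ∧ a ≠ y) → ∀ G : EtCoh.Ab Y, Killed ℓ G →
      (∀ y, y ∉ C → ZeroAt G y) → Subsingleton (EtCoh.H Y G q)) :
    Subsingleton (EtCoh.H Y F (q + 1)) := by
  classical
  haveI : NoetherianSpace Y := inferInstance
  haveI := (NoetherianSpace.finite_irreducibleComponents (α := Y)).to_subtype
  obtain ⟨k, ⟨e⟩⟩ := Finite.exists_equiv_fin ↥(irreducibleComponents Y)
  let K : Fin k → Closeds Y := fun i => ⟨(e.symm i).1, isClosed_of_mem_irreducibleComponents _ (e.symm i).2⟩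
  have hKc : ∀ i, (K i : Set Y) ∈ irreducibleComponents Y := fun i => (e.symm i).2
  have hKinj : ∀ i i', (K i : Set Y) = K i' → i = i' := fun i i' h => e.symm.injective (Subtype.ext h)
  have hcov : ∀ y : Y, ∃ i, y ∈ (K i : Set Y) := fun y => by
    refine ⟨e ⟨irreducibleComponent y, irreducibleComponent_mem_irreducibleComponents y⟩, ?_⟩
    show y ∈ ((e.symm (e _)).1 : Set Y)
    rw [e.symm_apply_apply]
    exact mem_irreducibleComponent
  let A : Fin k → EtCoh.Ab Y := fun i => (EtCoh.push (subι (K i))).obj ((EtCoh.pull (subι (K i))).obj F)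
  let us : F ⟶ ⨁ A := biproduct.lift fun i => (EtCoh.pullPushAdj (subι (K i))).unit.app F
  have hπ : ∀ i, us ≫ biproduct.π A i = (EtCoh.pullPushAdj (subι (K i))).unit.app F := fun i => biproduct.lift_π _ _
  haveI : Mono us := Preadditive.mono_of_isZero_kernel _ (isZero_of_zeroAt _ fun y => by
    obtain ⟨i, hi⟩ := hcov y
    obtain ⟨z, hz⟩ : y ∈ Set.range (subι (K i)) := by rw [range_subι]; exact hi
    obtain ⟨Ω, _, _, ξ, hξ, hb⟩ :=
      bijective_stalk_unit_at (subι (K i)) (EtPushStalk.liftProp_of_closedImmersion _) F z hz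
    have h0 : kernel.ι us ≫ (EtCoh.pullPushAdj (subι (K i))).unit.app F = 0 := by
      rw [← hπ i, kernel.condition_assoc, zero_comp]
    haveI : Mono (kernel.lift _ (kernel.ι us) h0) := inferInstance
    exact zeroAt_of_mono (kernel.lift _ (kernel.ι us) h0) (zeroAt_kernel hξ _ hb.1))
  let N : Set Y := ⋃ p : {p : Fin k × Fin k // p.1 ≠ p.2}, (K p.1.1 : Set Y) ∩ K p.1.2
  let C : Closeds Y := ⟨N, isClosed_iUnion_of_finite fun p => (K p.1.1).isClosed.inter (K p.1.2).isClosed⟩
  have hC : ∀ y ∈ C, ∃ a : Y, a ⤳ y ∧ a ≠ y := by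
    intro y hy
    obtain ⟨⟨⟨i, i'⟩, hne⟩, hi, hi'⟩ := Set.mem_iUnion.1 hy
    obtain ⟨a, ha⟩ := QuasiSober.sober (hKc i).1 (K i).isClosed
    refine ⟨a, ha.specializes hi, fun hay => hne (hKinj i i' (le_antisymm ?_ ((hKc i).2 (hKc i').1 ?_)))⟩
    all_goals
      rw [← ha, hay]
      exact closure_minimal (Set.singleton_subset_iff.2 hi') (K i').isClosed
  have hQ : ∀ y, y ∉ C → ZeroAt (cokernel us) y := fun y hy => by
    obtain ⟨i, hi⟩ := hcov y
    obtain ⟨z, hz⟩ : y ∈ Set.range (subι (K i)) := by rw [range_subι]; exact hi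
    obtain ⟨Ω, _, _, ξ, hξ, hb⟩ :=
      bijective_stalk_unit_at (subι (K i)) (EtPushStalk.liftProp_of_closedImmersion _) F z hz
    refine zeroAt_cokernel hξ us fun w => ?_
    have hπb := stalk_biproduct_π_bijective A i (fun a ha => zeroAt_push_closed _ _ fun hr => by
      rw [range_subι] at hr
      exact hy (Set.mem_iUnion.2 ⟨⟨(a, i), ha⟩, hr, hi⟩)) hξ
    obtain ⟨v, hv⟩ := hb.2 ((EtCoh.stalk ξ).map (biproduct.π A i) w)
    refine ⟨v, hπb.1 ?_⟩
    rw [← ConcreteCategory.comp_apply, ← Functor.map_comp, hπ i]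
    exact hv
  have hS : (ShortComplex.mk us (cokernel.π us) (cokernel.condition _)).ShortExact :=
    { exact := ShortComplex.exact_of_g_is_cokernel _ (cokernelIsCokernel _) }
  have hQk : Killed ℓ (cokernel us) :=
    killed_of_epi (cokernel.π us) (killed_biproduct A fun i => killed_push _ (killed_pull _ hk))
  haveI hA : Subsingleton (EtCoh.H Y (⨁ A) (q + 1)) := subsingleton_H_biproduct A (q + 1) fun i =>
    (subsingleton_H_iff_push _ _ (fun r => EtIntegral.Rpush_succ_isZero _ _ r) (q + 1)).2 (hcomp (K i) (hKc i))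
  refine subsingleton_of_forall_eq 0 fun x => ?_
  obtain ⟨c, hc⟩ := Ext.covariant_sequence_exact₁ (EtCoh.const Y ℤ) hS x (@Subsingleton.elim _ hA _ _) (n₀ := q) rfl
  rw [← hc, @Subsingleton.elim _ (hsmall C hC _ hQk hQ) c 0, Ext.zero_comp]

/-- from constructible to killed sheaves -/
theorem subsingleton_H_killed_of_constructible (q : ℕ)
    (h : ∀ F : EtCoh.Ab Y, EtPBC.IsConstructible F → Killed ℓ F → Subsingleton (EtCoh.H Y F q))
    (F : EtCoh.Ab Y) (hF : Killed ℓ F) : Subsingleton (EtCoh.H Y F q) := by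
  let Q : EtCoh.Ab Y → Prop := fun G => Killed ℓ G
  have hT : EtCoh.IsTorsion F := fun V s v => ⟨V, 𝟙 V, ⟨v, rfl⟩,
    isOfFinAddOrder_iff_nsmul_eq_zero.2 ⟨ℓ, hℓ.out.pos, by rw [op_id, CategoryTheory.Functor.map_id]; exact hF V s⟩⟩
  obtain ⟨hfil, ⟨hc⟩, hQ⟩ := EtCons.nonempty_isColimit_consCocone Q F
    (fun {A B} e hA => killed_of_mono e.inv hA)
    (fun {A B} _ _ hA hB => (killed_iff ℓ _).2 (by
      apply biprod.hom_ext'
      · rw [Preadditive.comp_nsmul, Category.comp_id, ← Category.id_comp (biprod.inl : A ⟶ A ⊞ B),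
          ← Preadditive.nsmul_comp, (killed_iff ℓ A).1 hA, zero_comp, comp_zero]
      · rw [Preadditive.comp_nsmul, Category.comp_id, ← Category.id_comp (biprod.inr : B ⟶ A ⊞ B),
          ← Preadditive.nsmul_comp, (killed_iff ℓ B).1 hB, zero_comp, comp_zero]))
    (fun {A B} φ _ _ hB => killed_of_epi (cokernel.π φ) hB)
    ⟨_, EtCons.isConstructible_biproduct (fun i : Fin 0 => EtPBC.extZeroConst (i.elim0 : Y.Etale) (ZMod ℓ)) fun i => i.elim0,
      EtCons.killedBy_biproduct _ ℓ fun i => i.elim0⟩ hT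
    (fun U t x => by
      obtain ⟨O, hO, hxO, -⟩ := exists_isAffineOpen_mem_and_subset (X := U.left) (x := x) (U := ⊤) trivial
      haveI := U.prop
      let W : Y.Etale := Scheme.Etale.mk (O.ι ≫ U.hom)
      let g : W ⟶ U := MorphismProperty.Over.homMk O.ι rfl
      haveI : IsAffine W.left := hO
      exact ⟨W, g, ⟨⟨x, hxO⟩, rfl⟩, _, EtCons.isConstructible_extConst W ℓ hℓ.out.pos,
        EtCons.killedBy_extConst W ℓ, EtCons.extHom W ℓ _ (hF W _), EtCons.gen W ℓ,
        EtCons.extHom_gen W ℓ _ (hF W _)⟩)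
  haveI := hfil
  haveI := EtColimH.preservesColimitsOfShape_HF (X := Y) q (EtCons.ConsOver Q F)
  refine subsingleton_of_forall_eq 0 fun c => ?_
  obtain ⟨j, cj, rfl⟩ := Concrete.isColimit_exists_rep _ (isColimitOfPreserves (EtCoh.HF Y q) hc) c
  rw [show cj = 0 from @Subsingleton.elim (EtCoh.H Y ((EtCons.consDiagram Q F).obj j) q)
    (h _ (hQ j).1 (hQ j).2) _ _]
  exact map_zero _

/-- from killed by the prime to torsion sheaves -/
theorem kVanOn_of_killed {d : ℕ}
    (h : ∀ q, d < q → ∀ F : EtCoh.Ab Y, Killed ℓ F → Subsingleton (EtCoh.H Y F q)) : KVanOn {ℓ} Y d := by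
  intro m hm F hF q hq
  induction m using Nat.strong_induction_on generalizing F with
  | _ m ih =>
    rcases Nat.lt_or_ge m 2 with h1 | h2
    · refine subsingleton_H_of_isZero (IsZero.iff_id_eq_zero _ |>.2 ?_) q
      obtain rfl : m = 1 := by have := hm.1; omega
      simpa using (killed_iff 1 F).1 hF
    obtain ⟨l, hl, hlm⟩ := Nat.exists_prime_and_dvd (show m ≠ 1 by omega)
    obtain rfl : l = ℓ := hm.2 l hl hlm
    obtain ⟨M, rfl⟩ := hlm
    have hM : 0 < M := Nat.pos_of_mul_pos_left hm.1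
    let μ : F ⟶ F := l • 𝟙 F
    have hA : (ShortComplex.mk (kernel.ι μ) (cokernel.π (kernel.ι μ)) (cokernel.condition _)).ShortExact :=
      { exact := ShortComplex.exact_of_g_is_cokernel _ (cokernelIsCokernel _) }
    have hI : Killed M (cokernel (kernel.ι μ)) := by
      have h3 : (M • 𝟙 F) ≫ μ = 0 := by
        rw [Preadditive.nsmul_comp, Category.id_comp, smul_smul, mul_comm, (killed_iff _ F).1 hF]
      refine (killed_iff _ _).2 ((cancel_epi (cokernel.π (kernel.ι μ))).1 ?_)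
      rw [Preadditive.comp_nsmul, Category.comp_id, comp_zero, ← Category.id_comp (cokernel.π (kernel.ι μ)),
        ← Preadditive.nsmul_comp, ← kernel.lift_ι μ (M • 𝟙 F) h3, Category.assoc, cokernel.condition, comp_zero]
    refine subsingleton_H_X₂ hA q (h q hq _ ((killed_iff _ _).2 (KummerLib.nsmul_id_kernel l))) ?_
    exact ih M (lt_mul_left hM hl.one_lt) ⟨hM, fun r hr hd' => hm.2 r hr (hd'.mul_left l)⟩ _ hI

end Groth.Agent.EtDimDev
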