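import Groth.Agent.EtDimDev.Devis
import Groth.Agent.EtTrace.Main
import Groth.Agent.FLCFilt.Main
import Groth.Agent.EtaleLocalProps.Basic
import Groth.Agent.EtCons.NoethCons
import Groth.Agent.FpqcDescent.Immersion
import Groth.Agent.EtShriekStalk.Basic
import Groth.Agent.EtDivSeq.Coh
import Groth.Agent.FieldFEt.Sep
import Groth.Agent.EtAcycX.Descend
import Mathlib

/-!
# Vanishing of cohomology from a dimension function
-/

set_option autoImplicit false
set_option backward.isDefEq.respectTransparency false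
set_option backward.isDefEq.respectTransparency.types false
set_option linter.auxLemma false
set_option linter.style.haveILetI false
set_option linter.unusedSectionVars false
set_option linter.overlappingInstances false

universe u

open CategoryTheory CategoryTheory.Limits CategoryTheory.Abelian AlgebraicGeometry Opposite TopologicalSpace
open Groth.Agent.EtPBC

noncomputable section

namespace Groth.Agent.EtDimDev

attribute [local instance 100000] EtCoh.H._proof_1 EtMV.hext
attribute [local instance 200000] EtMV.hextAb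

theorem noetherian_of_finite {T Y : Scheme.{u}} [AlgebraicGeometry.IsNoetherian Y] (f : T ⟶ Y) [LocallyOfFiniteType f]
    [QuasiCompact f] : AlgebraicGeometry.IsNoetherian T := by
  haveI : IsLocallyNoetherian T := LocallyOfFiniteType.isLocallyNoetherian f
  haveI : CompactSpace T := QuasiCompact.compactSpace_of_compactSpace f
  exact { }

/-- geometric fibres over separably and algebraically closed fields have the same points -/
theorem natCard_pullback_of_algClosure {T V : Scheme.{u}} (f : T ⟶ V) {Ω : Type u} [Field Ω] [IsSepClosed Ω]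
    (ξ : Spec (CommRingCat.of Ω) ⟶ V) :
    Nat.card ↥(pullback f (Spec.map (CommRingCat.ofHom (algebraMap Ω (AlgebraicClosure Ω))) ≫ ξ)) =
      Nat.card ↥(pullback f ξ) := by
  let b := Spec.map (CommRingCat.ofHom (algebraMap Ω (AlgebraicClosure Ω)))
  haveI : UniversallyInjective b := FieldFEt.universallyInjective_specMap Ω (AlgebraicClosure Ω)
  haveI : Surjective b := ⟨fun x => ⟨default, Subsingleton.elim (α := Spec (CommRingCat.of Ω)) _ _⟩⟩
  let e := pullbackLeftPullbackSndIso f ξ b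
  rw [← Nat.card_congr e.hom.homeomorph.toEquiv]
  haveI : UniversallyInjective (pullback.fst (pullback.snd f ξ) b) := MorphismProperty.pullback_fst _ _ ‹_›
  haveI : Surjective (pullback.fst (pullback.snd f ξ) b) := MorphismProperty.pullback_fst _ _ ‹_›
  exact Nat.card_congr (Equiv.ofBijective _
    ⟨(pullback.fst (pullback.snd f ξ) b).injective, (pullback.fst (pullback.snd f ξ) b).surjective⟩)

theorem subsingleton_H_factor {X : Scheme.{u}} {A P : EtCoh.Ab X} (t : A ⟶ A) [IsIso t] (a : A ⟶ P) (b : P ⟶ A)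
    (h : a ≫ b = t) (q : ℕ) (hP : Subsingleton (EtCoh.H X P q)) : Subsingleton (EtCoh.H X A q) := by
  refine subsingleton_of_forall_eq 0 fun x => ?_
  have h0 : Ext.comp x (Ext.mk₀ t) (add_zero q) = 0 := by
    rw [← h, ← Ext.mk₀_comp_mk₀, ← Ext.comp_assoc_of_second_deg_zero,
      @Subsingleton.elim (EtCoh.H X P q) hP (Ext.comp x (Ext.mk₀ a) (add_zero q)) 0, Ext.zero_comp]
  calc x = Ext.comp (Ext.comp x (Ext.mk₀ t) (add_zero q)) (Ext.mk₀ (inv t)) (add_zero q) := by simp
    _ = 0 := by rw [h0, Ext.zero_comp]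

variable {X : Scheme.{u}} [AlgebraicGeometry.IsNoetherian X] (ℓ : ℕ) [hℓ : Fact ℓ.Prime]
  (φ : ∀ (Y : Scheme.{u}), (Y ⟶ X) → ℕ)
  (hmono : ∀ (Y₁ Y₂ : Scheme.{u}) (g₁ : Y₁ ⟶ X) (g₂ : Y₂ ⟶ X) [IsIntegral Y₁] [IsIntegral Y₂] [IsFinite g₁]
    [IsFinite g₂] (m : Y₁ ⟶ Y₂), m ≫ g₂ = g₁ → φ Y₁ g₁ ≤ φ Y₂ g₂ ∧ (IsClosedImmersion m → ¬ IsIso m → φ Y₁ g₁ < φ Y₂ g₂))
  (h2 : ∀ (Y : Scheme.{u}) (g : Y ⟶ X) [IsIntegral Y] [IsFinite g] (q : ℕ), φ Y g < q →
    Subsingleton (EtCoh.H Y (EtCoh.const Y (ZMod ℓ)) q))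

/-- sheaves supported where the dimension function is small -/
def Small (n : ℕ) : Prop :=
  ∀ (Y : Scheme.{u}) (g : Y ⟶ X), IsFinite g → (∀ y, psi φ g y < n) → ∀ q, n ≤ q → ∀ F : EtCoh.Ab Y, Killed ℓ F →
    Subsingleton (EtCoh.H Y F q)

section Step

variable {n : ℕ} (hS : Small ℓ φ n)
include hmono hS

theorem subsingleton_H_closed {Y : Scheme.{u}} (g : Y ⟶ X) [IsFinite g] (C : Closeds Y)
    (hC : ∀ y ∈ C, psi φ g y < n) (G : EtCoh.Ab Y) (hG : Killed ℓ G) (hz : ∀ y, y ∉ C → ZeroAt G y) (q : ℕ)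
    (hq : n ≤ q) : Subsingleton (EtCoh.H Y G q) :=
  subsingleton_H_of_zeroAt_compl (subι C) G (fun y hy => hz y fun h => hy (by rw [range_subι]; exact h)) q
    (hS _ (subι C ≫ g) inferInstance (fun z => (psi_map φ hmono g (subι C) z).trans_lt (hC _ (subι_mem C z))) q hq _
      (killed_pull _ hG))

include h2

/-- constants -/
theorem subsingleton_H_const {T : Scheme.{u}} (g : T ⟶ X) [IsFinite g] (hT : ∀ t, psi φ g t < n + 1) (q : ℕ)
    (hq : n ≤ q) : Subsingleton (EtCoh.H T (EtCoh.const T (ZMod ℓ)) (q + 1)) := by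
  haveI := noetherian_of_finite g
  refine subsingleton_H_of_components ℓ _ (killed_const T ℓ) q (fun C hC => ?_) fun C hC G hG hz => ?_
  · obtain ⟨a, ha⟩ := QuasiSober.sober hC.1 C.isClosed
    obtain rfl : C = cl a := Closeds.ext (ha.symm : (C : Set T) = closure {a})
    exact subsingleton_H_of_iso (EtCons.pullConstM (subι (cl a)) (ZMod ℓ)).symm (q + 1)
      (h2 (sub (cl a)) (subι (cl a) ≫ g) (q + 1) (show psi φ g a < q + 1 by have := hT a; omega))
  · refine subsingleton_H_closed ℓ φ hmono hS g C (fun y hy => ?_) G hG hz q hq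
    obtain ⟨a, ha, hne⟩ := hC y hy
    have := psi_lt φ hmono g ha hne
    have := hT a
    omega

/-- extensions by zero of constants from étale schemes -/
theorem subsingleton_H_extConst {Y : Scheme.{u}} (g : Y ⟶ X) [IsFinite g] (hY : ∀ y, psi φ g y < n + 1)
    (U : Y.Etale) [IsReduced U.left] [IsSeparated U.hom] [QuasiCompact U.hom] [LocallyQuasiFinite U.hom] (q : ℕ)
    (hq : n ≤ q) : Subsingleton (EtCoh.H Y (EtPBC.extZeroConst U (ZMod ℓ)) (q + 1)) := by
  haveI := noetherian_of_finite g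
  haveI : Etale U.hom := U.prop
  obtain ⟨T, j, π, hj, hjq, hπ, -, hw⟩ := Groth.Agent.S1477.result (S := Y) (U.hom : U.left ⟶ Y)
  haveI := hj
  haveI := hjq
  haveI := hπ
  haveI := noetherian_of_finite π
  let C₀ : Closeds T := ⟨closure (Set.range j), isClosed_closure⟩
  let τ := subι C₀
  haveI : Surjective (pullback.fst j τ) := ⟨fun z => by
    obtain ⟨a, ha⟩ : j z ∈ Set.range τ := by rw [range_subι]; exact subset_closure ⟨z, rfl⟩
    obtain ⟨p, hp, -⟩ := Scheme.Pullback.exists_preimage_pullback z a ha.symm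
    exact ⟨p, hp⟩⟩
  haveI : IsReduced ((𝟭 Scheme.{u}).obj U.left) := ‹IsReduced U.left›
  haveI := isIso_of_isClosedImmersion_of_surjective (pullback.fst j τ)
  let j₀ : U.left ⟶ sub C₀ := inv (pullback.fst j τ) ≫ pullback.snd j τ
  have hj₀ : j₀ ≫ τ = j := by
    simp only [j₀, Category.assoc, ← pullback.condition, IsIso.inv_hom_id_assoc]
  haveI : IsOpenImmersion j₀ := inferInstance
  let π₀ : sub C₀ ⟶ Y := τ ≫ π
  have hw₀ : j₀ ≫ π₀ = U.hom := by rw [reassoc_of% hj₀, hw]
  haveI := noetherian_of_finite π₀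
  have hT : ∀ t, psi φ (π₀ ≫ g) t < n + 1 := fun t => (psi_map φ hmono g π₀ t).trans_lt (hY _)
  let D : Closeds (sub C₀) := ⟨(Set.range j₀)ᶜ, j₀.isOpenEmbedding.isOpen_range.isClosed_compl⟩
  have hr : Set.range (subι D) = (Set.range j₀)ᶜ := range_subι D
  obtain ⟨ι⟩ := exists_extZeroConst_iso (ZMod ℓ) U j₀ π₀ hw₀ (subι D) (by rw [hr, compl_compl])
  refine subsingleton_H_of_iso ι.symm (q + 1)
    ((subsingleton_H_iff_push π₀ _ (fun k => EtIntegral.Rpush_succ_isZero π₀ _ k) (q + 1)).2 ?_)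
  refine subsingleton_of_forall_eq 0 fun x => ?_
  obtain ⟨c, hc⟩ := Ext.covariant_sequence_exact₁ (EtCoh.const (sub C₀) ℤ) (Kc.shortExact (subι D) (ZMod ℓ)) x
    (@Subsingleton.elim (EtCoh.H (sub C₀) (EtCoh.const (sub C₀) (ZMod ℓ)) (q + 1))
      (subsingleton_H_const ℓ φ hmono h2 hS (π₀ ≫ g) hT q hq) _ _) (n₀ := q) rfl
  have hD : Subsingleton (EtCoh.H (sub C₀) ((EtCoh.push (subι D)).obj
      ((EtCoh.pull (subι D)).obj (EtCoh.const (sub C₀) (ZMod ℓ)))) q) := by
    refine (subsingleton_H_iff_push _ _ (fun k => EtIntegral.Rpush_succ_isZero _ _ k) q).2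
      (hS _ (subι D ≫ π₀ ≫ g) inferInstance (fun d => ?_) q hq _ (killed_pull _ (killed_const _ ℓ)))
    refine (psi_map φ hmono (π₀ ≫ g) (subι D) d).trans_lt ?_
    haveI : QuasiCompact j₀ := inferInstance
    have hmem : subι D d ∈ closure (Set.range j₀) := by
      rw [τ.isEmbedding.isInducing.closure_eq_preimage_closure_image, ← Set.range_comp,
        show τ ∘ j₀ = j from funext fun z => congr($hj₀ z)]
      exact subι_mem C₀ _
    obtain ⟨u, hu⟩ := FpqcDescent.exists_specializes_of_mem_closure j₀ hmem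
    have hne : j₀ u ≠ subι D d := fun e => (hr.le ⟨d, rfl⟩ : subι D d ∈ (Set.range j₀)ᶜ) ⟨u, e⟩
    have := psi_lt φ hmono (π₀ ≫ g) hu hne
    have := hT (j₀ u)
    omega
  rw [← hc, @Subsingleton.elim _ hD c 0, Ext.zero_comp]

/-- constructible sheaves on integral schemes -/
theorem subsingleton_H_integral {Y : Scheme.{u}} [IsIntegral Y] (g : Y ⟶ X) [IsFinite g]
    (hY : ∀ y, psi φ g y < n + 1) (F : EtCoh.Ab Y) (hF : EtPBC.IsConstructible F) (hk : Killed ℓ F) (q : ℕ)
    (hq : n ≤ q) : Subsingleton (EtCoh.H Y F (q + 1)) := by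
  haveI := noetherian_of_finite g
  obtain ⟨T₀, j₁, hj₁, -, t, ht, -, hflc⟩ := EtCons.exists_generic_stratum hF (genericPoint Y)
  haveI := hj₁
  let V := j₁.coborderRange
  haveI : Surjective j₁.liftCoborder := ⟨fun v => by
    have h1 : IsClosed (Set.range j₁.liftCoborder) := j₁.liftCoborder.isClosedEmbedding.isClosed_range
    refine Specializes.mem_closed (x := j₁.liftCoborder t) ?_ h1 ⟨t, rfl⟩
    rw [← V.ι.isEmbedding.isInducing.specializes_iff]
    have : V.ι (j₁.liftCoborder t) = genericPoint Y := by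
      rw [← Scheme.Hom.comp_apply, j₁.liftCoborder_ι]
      exact ht
    rw [this]
    exact (genericPoint_spec Y).specializes (Set.mem_univ _)⟩
  haveI : IsIso j₁.liftCoborder := isIso_of_isClosedImmersion_of_surjective _
  have hflcV : EtCoh.IsFiniteLocallyConstant ((EtCoh.pull V.ι).obj F) := by
    obtain ⟨a⟩ := EtCons.nonempty_pull_pull (inv j₁.liftCoborder) j₁ V.ι
      ((IsIso.inv_comp_eq _).2 j₁.liftCoborder_ι.symm)
    exact EtCons.isFLC_of_iso (a.app F) (EtCons.isFLC_pull _ hflc)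
  haveI : Nonempty (V : Scheme.{u}) := ⟨j₁.liftCoborder t⟩
  haveI : AlgebraicGeometry.IsNoetherian (V : Scheme.{u}) := EtDivSeq.isNoetherian_open V
  haveI : IsIntegral (V : Scheme.{u}) := isIntegral_of_isOpenImmersion V.ι
  haveI : EtShriek.JCont V.ι := EtMV.jcont_etale V.ι
  haveI := Groth.Agent.EtPullExact.pull_preservesFiniteLimits V.ι
  haveI : (EtShriek.restrAlong V.ι).Additive := (EtPushStalk.restrPushAdj V.ι).left_adjoint_additive
  haveI : (EtShriek.extZero V.ι).IsLeftAdjoint := (EtShriek.extZeroAdj V.ι).isLeftAdjoint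
  haveI : PreservesFiniteLimits (EtShriek.extZero V.ι) := EtShriekStalk.preservesFiniteLimits V.ι
  -- the part on the open
  let H := (EtShriek.restrAlong V.ι).obj F
  have hH : EtCoh.IsFiniteLocallyConstant H :=
    EtCons.isFLC_of_iso ((EtPushStalk.restrPullIso V.ι).app F).symm hflcV
  have hHk : Killed ℓ H := killed_of_mono ((EtPushStalk.restrPullIso V.ι).app F).hom (killed_pull _ hk)
  have hP : Subsingleton (EtCoh.H Y ((EtShriek.extZero V.ι).obj H) (q + 1)) := by
    obtain ⟨T, f, hf1, hf2, d, hd, hcard, k, Gs, ψ, h0, ⟨e⟩, hψ⟩ := FLCFilt.exists_filtration _ ℓ H hH hHk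
    haveI := hf1
    haveI := hf2
    haveI : EtShriek.JCont f := EtMV.jcont_etale f
    haveI : EtShriek.JCont (f ≫ V.ι) := EtMV.jcont_etale _
    haveI : (EtShriek.extZero f).IsLeftAdjoint := (EtShriek.extZeroAdj f).isLeftAdjoint
    haveI : PreservesFiniteLimits (EtShriek.extZero f) := EtShriekStalk.preservesFiniteLimits f
    have hL : ∀ p : ℕ, p.Prime → p ∈ ({ℓ} : Set ℕ) → ¬ p ∣ d := fun p hp hpl => by
      rw [Set.mem_singleton_iff.1 hpl]
      exact (Nat.Prime.coprime_iff_not_dvd Fact.out).1 hd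
    have hT : EtAcyc.IsLTorsion {ℓ} H := fun U s x => ⟨U, 𝟙 U, ℓ, ⟨x, rfl⟩,
      ⟨hℓ.out.pos, fun p hp hpd => Set.mem_singleton_iff.2 ((Nat.prime_dvd_prime_iff_eq hp hℓ.out).1 hpd)⟩, hHk U _⟩
    have hd' : ∀ (Ω : Type u) [Field Ω] [IsSepClosed Ω] (ξ : Spec (CommRingCat.of Ω) ⟶ (V : Scheme.{u})),
        Nat.card ↥(pullback f ξ) = d := fun Ω _ _ ξ => by
      let Ω' := AlgebraicClosure Ω
      let b := Spec.map (CommRingCat.ofHom (algebraMap Ω Ω'))
      rw [← hcard Ω' (b ≫ ξ)]
      refine Eq.trans ?_ (EtTrace.natCard_lifts f (b ≫ ξ)).symm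
      exact (natCard_pullback_of_algClosure f ξ).symm
    haveI := EtTrace.isIso_transfer f H hd' hL hT
    haveI := EtCons.isIso_toPush f ((EtShriek.restrAlong f).obj H)
    let Φ := EtShriek.extZero f ⋙ EtShriek.extZero V.ι
    haveI : Φ.IsLeftAdjoint := inferInstance
    haveI : PreservesFiniteLimits Φ := comp_preservesFiniteLimits _ _
    haveI : Φ.Additive := ((EtShriek.extZeroAdj f).comp (EtShriek.extZeroAdj V.ι)).left_adjoint_additive
    refine subsingleton_H_factor ((EtShriek.extZero V.ι).map (EtTrace.transfer f H))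
      ((EtShriek.extZero V.ι).map ((EtPushStalk.restrPushAdj f).unit.app H ≫
        inv ((EtShriekStalk.toPush f).app ((EtShriek.restrAlong f).obj H))))
      ((EtShriek.extZero V.ι).map ((EtShriek.extZeroAdj f).counit.app H))
      ((Functor.map_comp _ _ _).symm.trans (congrArg _ (Category.assoc _ _ _))) (q + 1) ?_
    -- constants
    haveI : IsReduced T := by
      haveI : ∀ z, _root_.IsReduced (T.presheaf.stalk z) := fun z =>
        (EtaleLocalProps.isReduced_stalk_iff f z).2 inferInstance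
      exact isReduced_of_isReduced_stalk T
    let U : Y.Etale := Scheme.Etale.mk (f ≫ V.ι)
    haveI : IsReduced U.left := ‹IsReduced T›
    haveI : IsSeparated U.hom := inferInstanceAs (IsSeparated (f ≫ V.ι))
    haveI : QuasiCompact U.hom := inferInstanceAs (QuasiCompact (f ≫ V.ι))
    haveI : Etale U.hom := U.prop
    haveI : LocallyQuasiFinite U.hom := FpqcDescent.locallyQuasiFinite_of_etale U.hom
    haveI : EtShriek.JCont U.hom := EtMV.jcont_etale _
    let eR : EtShriek.restrAlong (f ≫ V.ι) ≅ EtShriek.restrAlong V.ι ⋙ EtShriek.restrAlong f :=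
      EtPushStalk.restrPullIso _ ≪≫ EtCore.pullComp f V.ι ≪≫
        Functor.isoWhiskerRight (EtPushStalk.restrPullIso V.ι).symm _ ≪≫
          Functor.isoWhiskerLeft _ (EtPushStalk.restrPullIso f).symm
    let eE : Φ ≅ EtShriek.extZero (f ≫ V.ι) :=
      (((EtShriek.extZeroAdj f).comp (EtShriek.extZeroAdj V.ι)).ofNatIsoRight eR.symm).leftAdjointUniq
        (EtShriek.extZeroAdj (f ≫ V.ι))
    have hc : Subsingleton (EtCoh.H Y (Φ.obj (EtCoh.const T (ZMod ℓ))) (q + 1)) :=
      subsingleton_H_of_iso (eE.app _ ≪≫ EtCons.extZeroConstIso U (ZMod ℓ)).symm (q + 1)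
        (subsingleton_H_extConst ℓ φ hmono h2 hS g hY U q hq)
    have hind : ∀ i, i ≤ k → Subsingleton (EtCoh.H Y (Φ.obj (Gs i)) (q + 1)) := by
      intro i
      induction i with
      | zero => exact fun _ => subsingleton_H_of_isZero (Φ.map_isZero h0) _
      | succ i ih =>
        intro hi
        obtain ⟨hm, ⟨ec⟩⟩ := hψ i hi
        have hSi : (ShortComplex.mk (ψ i) (cokernel.π (ψ i)) (cokernel.condition _)).ShortExact :=
          haveI := hm
          { exact := ShortComplex.exact_of_g_is_cokernel _ (cokernelIsCokernel _) }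
        exact subsingleton_H_X₂ (hSi.map_of_exact Φ) (q + 1) (ih (by omega))
          (subsingleton_H_of_iso (Φ.mapIso ec).symm (q + 1) hc)
    exact subsingleton_H_of_iso (Φ.mapIso (e ≪≫ ((EtPushStalk.restrPullIso f).app H).symm)) (q + 1) (hind k le_rfl)
  -- the closed part
  let ε := (EtShriek.extZeroAdj V.ι).counit.app F
  let C : Closeds Y := ⟨(V : Set Y)ᶜ, V.2.isClosed_compl⟩
  haveI := EtPushStalk.isIso_unit_extZero V.ι H
  haveI : IsIso ((EtShriek.restrAlong V.ι).map ε) :=
    IsIso.of_isIso_fac_left ((EtShriek.extZeroAdj V.ι).right_triangle_components F)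
  have hzero : ∀ (G : EtCoh.Ab Y), IsZero ((EtShriek.restrAlong V.ι).obj G) → ∀ y ∈ V, ZeroAt G y := fun G h y hy => by
    obtain ⟨Ω, _, _, ζ, hζ⟩ := exists_geomPt (X := (V : Scheme.{u})) ⟨y, hy⟩
    refine (isZero_stalk_iff_zeroAt (ξ := ζ ≫ V.ι) ?_ G).1
      (IsZero.of_iso ((EtCoh.stalk ζ).map_isZero (h.of_iso ((EtPushStalk.restrPullIso V.ι).app G).symm))
        ((EtStalk.stalkPullIso V.ι ζ).app G))
    exact (congrArg V.ι hζ :)
  haveI : PreservesFiniteLimits (EtShriek.restrAlong V.ι) :=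
    preservesFiniteLimits_of_natIso (EtPushStalk.restrPullIso V.ι).symm
  haveI : (EtShriek.restrAlong V.ι).IsLeftAdjoint := (EtPushStalk.restrPushAdj V.ι).isLeftAdjoint
  haveI : Mono ε := Preadditive.mono_of_isZero_kernel _ (isZero_of_zeroAt _ fun y => by
    by_cases hy : y ∈ V
    · refine hzero _ (IsZero.of_mono_eq_zero ((EtShriek.restrAlong V.ι).map (kernel.ι ε)) ?_) y hy
      rw [← cancel_mono ((EtShriek.restrAlong V.ι).map ε), ← Functor.map_comp, kernel.condition, Functor.map_zero, zero_comp]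
    · refine zeroAt_of_mono (kernel.ι ε) ?_
      obtain ⟨Ω, _, _, ξ, hξ⟩ := exists_geomPt y
      refine (isZero_stalk_iff_zeroAt hξ _).1 ((IsZero.iff_id_eq_zero _).2
        (EtShriekStalk.hom_ext V.ι ξ H fun u => absurd ?_ hy))
      have h1 : V.ι (u.1 default) = y := (congrArg (fun m : Spec (CommRingCat.of Ω) ⟶ Y => m default) u.2).trans hξ
      exact h1 ▸ (u.1 default).2)
  have hQ : Subsingleton (EtCoh.H Y (cokernel ε) (q + 1)) := by
    refine subsingleton_H_closed ℓ φ hmono hS g C (fun y hy => ?_) _ (killed_of_epi (cokernel.π ε) hk)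
      (fun y hy => hzero _ (IsZero.of_epi_eq_zero ((EtShriek.restrAlong V.ι).map (cokernel.π ε)) ?_) y (not_not.1 hy))
      (q + 1) (by omega)
    · have hne : genericPoint Y ≠ y := by
        rintro rfl
        have hmemV : V.ι (j₁.liftCoborder t) = genericPoint Y := by
          rw [← Scheme.Hom.comp_apply, j₁.liftCoborder_ι]; exact ht
        exact hy (hmemV ▸ (j₁.liftCoborder t).2)
      have := psi_lt φ hmono g ((genericPoint_spec Y).specializes (Set.mem_univ y)) hne
      have := hY (genericPoint Y)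
      omega
    · rw [← cancel_epi ((EtShriek.restrAlong V.ι).map ε), ← Functor.map_comp, cokernel.condition, Functor.map_zero,
        comp_zero]
  have hSε : (ShortComplex.mk ε (cokernel.π ε) (cokernel.condition _)).ShortExact :=
    { exact := ShortComplex.exact_of_g_is_cokernel _ (cokernelIsCokernel _) }
  exact subsingleton_H_X₂ hSε (q + 1) hP hQ

theorem small_succ : Small ℓ φ (n + 1) := by
  intro Y g hg hY q hq F hF
  haveI := noetherian_of_finite g
  obtain ⟨q, rfl⟩ : ∃ k, q = k + 1 := ⟨q - 1, by omega⟩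
  refine subsingleton_H_killed_of_constructible ℓ (q + 1) (fun F hc hk => ?_) F hF
  refine subsingleton_H_of_components ℓ F hk q (fun C hC => ?_) fun C hC G hG hz => ?_
  · obtain ⟨a, ha⟩ := QuasiSober.sober hC.1 C.isClosed
    obtain rfl : C = cl a := Closeds.ext (ha.symm : (C : Set Y) = closure {a})
    exact subsingleton_H_integral ℓ φ hmono h2 hS (subι (cl a) ≫ g)
      (fun z => (psi_map φ hmono g (subι (cl a)) z).trans_lt (hY _)) _
      (EtCons.isConstructible_pull _ hc) (killed_pull _ hk) q (by omega)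
  · refine subsingleton_H_closed ℓ φ hmono hS g C (fun y hy => ?_) G hG hz q (by omega)
    obtain ⟨a, ha, hne⟩ := hC y hy
    have := psi_lt φ hmono g ha hne
    have := hY a
    omega

end Step

include hmono h2

theorem small (n : ℕ) : Small ℓ φ n := by
  induction n with
  | zero => exact fun Y g hg hY q hq F hF => subsingleton_H_of_isZero (isZero_of_zeroAt F fun y => absurd (hY y) (Nat.not_lt_zero _)) q
  | succ n ih => exact small_succ ℓ φ hmono h2 ih

/-- **vanishing from the dimension function** -/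
theorem subsingleton_H_of_dim {Y : Scheme.{u}} (g : Y ⟶ X) [IsFinite g] (F : EtCoh.Ab Y)
    (hF : EtAcyc.IsLTorsion {ℓ} F) (q : ℕ)
    (hq : ∀ (Z : Scheme.{u}) (c : Z ⟶ Y) [IsIntegral Z] [IsClosedImmersion c],
      Set.range c.base ⊆ closure (EtPBC.supp F) → φ Z (c ≫ g) < q) : Subsingleton (EtCoh.H Y F q) := by
  haveI := noetherian_of_finite g
  let C : Closeds Y := ⟨closure (EtPBC.supp F), isClosed_closure⟩
  haveI := noetherian_of_finite (subι C ≫ g)
  have hC : ∀ y ∈ C, psi φ g y < q := fun y hy => hq (sub (cl y)) (subι (cl y)) (by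
    rw [range_subι]; exact closure_minimal (Set.singleton_subset_iff.2 hy) C.isClosed)
  have hψ : ∀ z, psi φ (subι C ≫ g) z < q := fun z => (psi_map φ hmono g (subι C) z).trans_lt (hC _ (subι_mem C z))
  refine subsingleton_H_of_zeroAt_compl (subι C) F (fun y hy => zeroAt_of_notMem_supp fun h => hy ?_) q ?_
  · rw [range_subι]; exact subset_closure h
  · rcases Nat.eq_zero_or_pos q with rfl | hq0
    · exact subsingleton_H_of_isZero (isZero_of_zeroAt _ fun z => absurd (hψ z) (Nat.not_lt_zero _)) 0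
    exact (kVanOn_of_killed ℓ (d := q - 1) fun q' hq' G hG =>
      small ℓ φ hmono h2 q _ (subι C ≫ g) inferInstance hψ q' (by omega) G hG).subsingleton_H _
        (EtAcycX.isLTorsion_pull _ hF) q (by omega)

end Groth.Agent.EtDimDev
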