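import Mathlib

/-!
# Dimension functions on reduced closures of points
-/

set_option autoImplicit false
set_option backward.isDefEq.respectTransparency false
set_option backward.isDefEq.respectTransparency.types false
set_option linter.style.haveILetI false

universe u

open CategoryTheory CategoryTheory.Limits AlgebraicGeometry TopologicalSpace

noncomputable section

namespace Groth.Agent.EtDimDev

variable {Y : Scheme.{u}}

/-- the reduced closed subscheme on a closed subset -/
abbrev sub (C : Closeds Y) : Scheme.{u} := (Scheme.IdealSheafData.vanishingIdeal C).subscheme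

/-- its inclusion -/
abbrev subι (C : Closeds Y) : sub C ⟶ Y := (Scheme.IdealSheafData.vanishingIdeal C).subschemeι

theorem range_subι (C : Closeds Y) : Set.range (subι C) = (C : Set Y) := by
  rw [Scheme.IdealSheafData.range_subschemeι, Scheme.IdealSheafData.coe_support_vanishingIdeal]

instance (C : Closeds Y) : IsReduced (sub C) := by
  apply +allowSynthFailures @IsReduced.of_openCover
    (𝒰 := (Scheme.IdealSheafData.vanishingIdeal C).subschemeCover.openCover)
  intro U
  have : _root_.IsReduced (Γ(Y, U.1) ⧸ (Scheme.IdealSheafData.vanishingIdeal C).ideal U) := by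
    rw [← Ideal.isRadical_iff_quotient_reduced, Scheme.IdealSheafData.vanishingIdeal_ideal]
    exact PrimeSpectrum.isRadical_vanishingIdeal _
  exact inferInstanceAs (IsReduced
    (Spec (CommRingCat.of (Γ(Y, U.1) ⧸ (Scheme.IdealSheafData.vanishingIdeal C).ideal U))))

/-- morphisms from reduced schemes factor through closed immersions set-theoretically -/
theorem exists_lift {A Z : Scheme.{u}} [IsReduced Z] (τ : A ⟶ Y) [IsClosedImmersion τ] (c : Z ⟶ Y)
    (h : ∀ z, c z ∈ Set.range τ) : ∃ l : Z ⟶ A, l ≫ τ = c := by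
  haveI : Surjective (pullback.fst c τ) := ⟨fun z => by
    obtain ⟨a, ha⟩ := h z
    obtain ⟨p, hp, -⟩ := Scheme.Pullback.exists_preimage_pullback z a ha.symm
    exact ⟨p, hp⟩⟩
  haveI := isIso_of_isClosedImmersion_of_surjective (pullback.fst c τ)
  exact ⟨inv (pullback.fst c τ) ≫ pullback.snd c τ,
    by rw [Category.assoc, ← pullback.condition, IsIso.inv_hom_id_assoc]⟩

/-- the closure of a point -/
def cl (y : Y) : Closeds Y := ⟨closure {y}, isClosed_closure⟩

theorem subι_mem (C : Closeds Y) (z : sub C) : subι C z ∈ (C : Set Y) := (range_subι C).le ⟨z, rfl⟩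

theorem exists_generic (y : Y) : ∃ η : sub (cl y), subι (cl y) η = y ∧ ∀ z, η ⤳ z := by
  obtain ⟨η, hη⟩ : y ∈ Set.range (subι (cl y)) := by rw [range_subι]; exact subset_closure rfl
  refine ⟨η, hη, fun z => ?_⟩
  rw [← (subι (cl y)).isEmbedding.isInducing.specializes_iff, hη, specializes_iff_mem_closure]
  exact subι_mem (cl y) z

instance isIntegral_sub_cl (y : Y) : IsIntegral (sub (cl y)) := by
  obtain ⟨η, -, hη⟩ := exists_generic y
  haveI : IrreducibleSpace (sub (cl y)) :=
    { toNonempty := ⟨η⟩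
      toPreirreducibleSpace := ⟨by
        rintro u v hu hv ⟨a, -, ha⟩ ⟨b, -, hb⟩
        exact ⟨η, trivial, (hη a).mem_open hu ha, (hη b).mem_open hv hb⟩⟩ }
  exact isIntegral_of_irreducibleSpace_of_isReduced _

variable {X : Scheme.{u}} (φ : ∀ (Y : Scheme.{u}), (Y ⟶ X) → ℕ)

/-- the value of the dimension function at a point -/
def psi (g : Y ⟶ X) (y : Y) : ℕ := φ (sub (cl y)) (subι (cl y) ≫ g)

variable (hmono : ∀ (Y₁ Y₂ : Scheme.{u}) (g₁ : Y₁ ⟶ X) (g₂ : Y₂ ⟶ X) [IsIntegral Y₁] [IsIntegral Y₂] [IsFinite g₁]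
  [IsFinite g₂] (m : Y₁ ⟶ Y₂), m ≫ g₂ = g₁ → φ Y₁ g₁ ≤ φ Y₂ g₂ ∧ (IsClosedImmersion m → ¬ IsIso m → φ Y₁ g₁ < φ Y₂ g₂))
include hmono

theorem psi_map {T : Scheme.{u}} (g : Y ⟶ X) [IsFinite g] (h : T ⟶ Y) [IsFinite h] (t : T) :
    psi φ (h ≫ g) t ≤ psi φ g (h t) := by
  obtain ⟨l, hl⟩ := exists_lift (subι (cl (h t))) (subι (cl t) ≫ h) fun z => by
    rw [range_subι]
    have h1 : t ⤳ subι (cl t) z := specializes_iff_mem_closure.2 (subι_mem _ z)
    exact specializes_iff_mem_closure.1 (h1.map h.continuous)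
  exact (hmono _ _ (subι (cl t) ≫ h ≫ g) (subι (cl (h t)) ≫ g) l (by rw [reassoc_of% hl])).1

theorem psi_lt (g : Y ⟶ X) [IsFinite g] {a b : Y} (h : a ⤳ b) (hne : a ≠ b) : psi φ g b < psi φ g a := by
  obtain ⟨l, hl⟩ := exists_lift (subι (cl a)) (subι (cl b)) fun z => by
    rw [range_subι]
    exact specializes_iff_mem_closure.1 (h.trans (specializes_iff_mem_closure.2 (subι_mem _ z)))
  haveI : IsClosedImmersion (l ≫ subι (cl a)) := by rw [hl]; infer_instance
  haveI : IsClosedImmersion l := IsClosedImmersion.of_comp l (subι (cl a))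
  refine (hmono _ _ (subι (cl b) ≫ g) (subι (cl a) ≫ g) l (by rw [reassoc_of% hl])).2 inferInstance fun hi => ?_
  obtain ⟨η, hη, -⟩ := exists_generic a
  obtain ⟨z, rfl⟩ := l.surjective η
  have hb : b ⤳ a := by
    rw [specializes_iff_mem_closure, ← hη]
    rw [← Scheme.Hom.comp_apply, hl]
    exact subι_mem _ z
  exact hne (h.antisymm hb).eq

/-- the value at the generic point of an integral closed subscheme -/
theorem le_psi_of_isIntegral {Z : Scheme.{u}} [IsIntegral Z] (g : Y ⟶ X) [IsFinite g] (c : Z ⟶ Y) [IsClosedImmersion c] :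
    φ Z (c ≫ g) ≤ psi φ g (c (genericPoint Z)) := by
  obtain ⟨l, hl⟩ := exists_lift (subι (cl (c (genericPoint Z)))) c fun z => by
    rw [range_subι]
    exact specializes_iff_mem_closure.1 (((genericPoint_spec Z).specializes (Set.mem_univ z)).map c.continuous)
  exact (hmono _ _ (c ≫ g) (subι _ ≫ g) l (by rw [reassoc_of% hl])).1

end Groth.Agent.EtDimDev
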